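import Mathlib

/-!
# Schur rings of transitive groups with a regular subgroup

`G` acts on the group `C` and contains the left translations (`IsTranslating`).  The sets that
are invariant under the stabiliser of `1` are the unions of basic sets of the Schur ring.
-/

set_option autoImplicit false

open MulAction

namespace CfsgLib.SchurRing

section Group

variable (G : Type*) (C : Type*) [Group G] [Group C] [MulAction G C]

/-- Every left translation of `C` is induced by an element of `G`. -/
def IsTranslating : Prop := ∀ c : C, ∃ g : G, ∀ x : C, g • x = c * x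

variable {G C}

/-- Sets invariant under the stabiliser of `1`. -/
def IsInvariant (G : Type*) {C : Type*} [Group G] [Group C] [MulAction G C] (X : Set C) : Prop :=
  ∀ g ∈ stabilizer G (1 : C), ∀ x ∈ X, g • x ∈ X

theorem isPretransitive (hτ : IsTranslating G C) : IsPretransitive G C :=
  ⟨fun x y => by
    obtain ⟨g, hg⟩ := hτ (y * x⁻¹)
    exact ⟨g, by rw [hg, inv_mul_cancel_right]⟩⟩

/-- The difference of two images is an image of the difference under the stabiliser of `1`. -/
theorem exists_stab (hτ : IsTranslating G C) (g : G) (x : C) :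
    ∃ g' ∈ stabilizer G (1 : C), ∀ y : C, (g • x)⁻¹ * (g • y) = g' • (x⁻¹ * y) := by
  obtain ⟨a, ha⟩ := hτ x
  obtain ⟨b, hb⟩ := hτ (g • x)⁻¹
  refine ⟨b * g * a, ?_, fun y => ?_⟩
  · rw [mem_stabilizer_iff, mul_smul, mul_smul, ha, mul_one, hb, inv_mul_cancel]
  · rw [mul_smul, mul_smul, ha, mul_inv_cancel_left, hb]

theorem div_mem (hτ : IsTranslating G C) {X : Set C} (hX : IsInvariant G X) (g : G) {x y : C}
    (h : x⁻¹ * y ∈ X) : (g • x)⁻¹ * (g • y) ∈ X := by
  obtain ⟨g', hg', hy⟩ := exists_stab hτ g x
  rw [hy]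
  exact hX g' hg' _ h

theorem isInvariant_orbit (x : C) : IsInvariant G (orbit (stabilizer G (1 : C)) x) := by
  intro g hg y hy
  exact mem_orbit_of_mem_orbit (⟨g, hg⟩ : stabilizer G (1 : C)) hy

theorem ne_one_of_mem_orbit {x y : C} (hx : x ≠ 1) (hy : y ∈ orbit (stabilizer G (1 : C)) x) :
    y ≠ 1 := by
  obtain ⟨g, rfl⟩ := hy
  intro h
  exact hx (MulAction.injective (g : G) ((h : (g : G) • x = 1).trans g.2.symm))

theorem orbit_subset {X : Set C} (hX : IsInvariant G X) {x : C} (hx : x ∈ X) :
    orbit (stabilizer G (1 : C)) x ⊆ X := by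
  rintro _ ⟨g, rfl⟩
  exact hX g g.2 x hx

/-- An invariant subgroup of a primitive group is trivial. -/
theorem eq_bot_or_top [Finite C] (hτ : IsTranslating G C) [IsPreprimitive G C] (K : Subgroup C)
    (hK : IsInvariant G (K : Set C)) : K = ⊥ ∨ K = ⊤ := by
  have hblock : IsBlock G (K : Set C) := by
    rw [isBlock_iff_smul_eq_of_nonempty]
    intro g hg
    obtain ⟨_, ⟨k, hk, rfl⟩, hgk⟩ := hg
    refine Set.eq_of_subset_of_ncard_le ?_ ?_ (Set.toFinite _)
    · rintro _ ⟨l, hl, rfl⟩
      have h1 := div_mem hτ hK g (x := k) (y := l) (K.mul_mem (K.inv_mem hk) hl)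
      have h2 := K.mul_mem hgk h1
      simp only [mul_inv_cancel_left] at h2
      exact h2
    · exact (Set.ncard_image_of_injective _ (MulAction.injective g)).ge
  rcases IsPreprimitive.isTrivialBlock_of_isBlock hblock with h | h
  · exact Or.inl ((Subgroup.eq_bot_iff_forall K).2 fun x hx => h hx K.one_mem)
  · exact Or.inr (SetLike.ext' (by simpa using h))

/-- The subgroup generated by an invariant set is invariant. -/
theorem isInvariant_closure [Finite C] (hτ : IsTranslating G C) {X : Set C}
    (hX : IsInvariant G X) : IsInvariant G (Subgroup.closure X : Set C) := by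
  intro g hg x hx
  rw [SetLike.mem_coe, ← Subgroup.mem_toSubmonoid,
    Subgroup.closure_toSubmonoid_of_finite] at hx
  induction hx using Submonoid.closure_induction_right with
  | one => rw [mem_stabilizer_iff.1 hg]; exact Subgroup.one_mem _
  | mul_right a _ b hb ih =>
    have h1 := div_mem hτ hX g (x := a) (y := a * b) (by rwa [inv_mul_cancel_left])
    have h2 := (Subgroup.closure X).mul_mem ih (Subgroup.subset_closure h1)
    rwa [mul_inv_cancel_left] at h2

/-- The left stabiliser of a set of an abelian group, written for arbitrary groups on the right. -/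
def rightStab [Finite C] (X : Set C) : Subgroup C where
  carrier := {u | ∀ x ∈ X, u * x ∈ X}
  one_mem' := fun x hx => by rwa [one_mul]
  mul_mem' := fun {u v} hu hv x hx => by rw [mul_assoc]; exact hu _ (hv x hx)
  inv_mem' := fun {u} hu x hx => by
    obtain ⟨k, hk, hk1⟩ := (isOfFinOrder_of_finite u).exists_pow_eq_one
    have hinv : u⁻¹ = u ^ (k - 1) := by
      rw [inv_eq_iff_mul_eq_one, ← pow_succ', Nat.sub_add_cancel hk, hk1]
    rw [hinv]
    have : ∀ m : ℕ, ∀ y ∈ X, u ^ m * y ∈ X := by
      intro m
      induction m with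
      | zero => exact fun y hy => by rwa [pow_zero, one_mul]
      | succ m ih => exact fun y hy => by rw [pow_succ', mul_assoc]; exact hu _ (ih y hy)
    exact this _ x hx

theorem isInvariant_rightStab [Finite C] (hτ : IsTranslating G C) {X : Set C}
    (hX : IsInvariant G X) : IsInvariant G (rightStab X : Set C) := by
  intro g hg u hu x hx
  have hx' : g⁻¹ • ((g • u) * x) ∈ X := by
    have h1 := div_mem hτ hX g⁻¹ (x := g • u) (y := (g • u) * x) (by rwa [inv_mul_cancel_left])
    rw [inv_smul_smul] at h1
    have h2 := hu _ h1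
    rwa [mul_inv_cancel_left] at h2
  have := hX g hg _ hx'
  rwa [smul_inv_smul] at this

end Group

section Mult

variable {G C : Type*} [Group G] [CommGroup C] [MulAction G C] [Finite C]

/-- Group-algebra elements fixed by the stabiliser of `1`. -/
def IsFixedElt (G : Type*) {C k : Type*} [Group G] [CommGroup C] [MulAction G C] [Semiring k]
    (f : MonoidAlgebra k C) : Prop :=
  ∀ g ∈ stabilizer G (1 : C), ∀ y : C, f.coeff (g • y) = f.coeff y

theorem isFixedElt_mul (hτ : IsTranslating G C) {k : Type*} [Semiring k]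
    {f h : MonoidAlgebra k C} (hf : IsFixedElt G f) (hh : IsFixedElt G h) :
    IsFixedElt G (f * h) := by
  classical
  cases nonempty_fintype C
  intro g hg y
  have key : ∀ z, (f * h).coeff z = ∑ x, f.coeff x * h.coeff (x⁻¹ * z) := fun z => by
    rw [MonoidAlgebra.coeff_mul_apply_left, Finsupp.sum_fintype]
    intro i
    simp
  rw [key, key]
  refine (Fintype.sum_equiv (MulAction.toPerm g) _ _ fun x => ?_).symm
  simp only [MulAction.toPerm_apply]
  obtain ⟨g', hg', hy⟩ := exists_stab hτ g x
  rw [hy, hf g hg, hh g' hg']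

omit [Finite C] in
theorem isFixedElt_one {k : Type*} [Semiring k] : IsFixedElt G (1 : MonoidAlgebra k C) := by
  classical
  intro g hg y
  have h : g • y = 1 ↔ y = 1 := by
    conv_lhs => rw [← mem_stabilizer_iff.1 hg, (MulAction.injective g).eq_iff]
  simp [MonoidAlgebra.one_def, Finsupp.single_apply, eq_comm, h]

theorem isFixedElt_pow (hτ : IsTranslating G C) {k : Type*} [Semiring k]
    {f : MonoidAlgebra k C} (hf : IsFixedElt G f) : ∀ m : ℕ, IsFixedElt G (f ^ m)
  | 0 => by rw [pow_zero]; exact isFixedElt_one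
  | m + 1 => by rw [pow_succ]; exact isFixedElt_mul hτ (isFixedElt_pow hτ hf m) hf

/-- Schur's theorem on the `p`-th power of an invariant set. -/
theorem isInvariant_powPrime (hτ : IsTranslating G C) {p : ℕ} [Fact p.Prime] {X : Set C}
    (hX : IsInvariant G X) :
    IsInvariant G {z : C | ¬ p ∣ Nat.card {x : C // x ∈ X ∧ x ^ p = z}} := by
  classical
  cases nonempty_fintype C
  set s : MonoidAlgebra (ZMod p) C := ∑ x ∈ X.toFinset, MonoidAlgebra.single x 1 with hs
  have hcoef : ∀ y, s.coeff y = if y ∈ X then 1 else 0 := by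
    intro y
    simp [hs, Finsupp.single_apply, Finset.sum_ite_eq']
  have hsf : IsFixedElt G s := by
    intro g hg y
    rw [hcoef, hcoef]
    have : g • y ∈ X ↔ y ∈ X := ⟨fun h => by
      simpa using hX g⁻¹ ((stabilizer G (1 : C)).inv_mem hg) _ h, fun h => hX g hg y h⟩
    simp [this]
  have hcount : ∀ z, (s ^ p).coeff z = (Nat.card {x : C // x ∈ X ∧ x ^ p = z} : ZMod p) := by
    intro z
    have : CharP (MonoidAlgebra (ZMod p) C) p :=
      charP_of_injective_ringHom (f := MonoidAlgebra.singleOneRingHom)
        MonoidAlgebra.single_right_injective p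
    rw [hs, sum_pow_char]
    simp only [MonoidAlgebra.single_pow, one_pow]
    rw [Nat.card_eq_fintype_card, Fintype.card_subtype]
    simp [Finsupp.single_apply, Finset.sum_boole]
    congr 2
    ext x
    simp
  intro g hg z hz
  have h := isFixedElt_pow hτ hsf p g hg z
  rw [hcount, hcount] at h
  intro hd
  exact hz ((ZMod.natCast_eq_zero_iff _ _).1 (h.symm.trans ((ZMod.natCast_eq_zero_iff _ _).2 hd)))

/-- Schur's multiplier theorem. -/
theorem isInvariant_image_pow (hτ : IsTranslating G C) {X : Set C} (hX : IsInvariant G X)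
    (m : ℕ) (hm : m.Coprime (Nat.card C)) : IsInvariant G ((· ^ m) '' X) := by
  induction m using Nat.recOnMul generalizing X with
  | zero =>
    have h1 : Subsingleton C := (Nat.card_eq_one_iff_unique.1 (by simpa using hm)).1
    intro g _ x hx
    rwa [Subsingleton.elim (g • x) x]
  | one => simpa using hX
  | prime p hp =>
    have : Fact p.Prime := ⟨hp⟩
    convert isInvariant_powPrime (p := p) hτ hX using 1
    ext z
    have hinj : Function.Injective fun x : C => x ^ p :=
      (powCoprime (Nat.Coprime.symm hm)).injective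
    constructor
    · rintro ⟨x, hx, rfl⟩
      have : Nat.card {y : C // y ∈ X ∧ y ^ p = x ^ p} = 1 := Nat.card_eq_one_iff_unique.2
        ⟨⟨fun a b => Subtype.ext (hinj (a.2.2.trans b.2.2.symm))⟩, ⟨⟨x, hx, rfl⟩⟩⟩
      change ¬ p ∣ Nat.card {y : C // y ∈ X ∧ y ^ p = x ^ p}
      rw [this, Nat.dvd_one]
      exact hp.ne_one
    · intro hz
      by_contra hno
      have : IsEmpty {x : C // x ∈ X ∧ x ^ p = z} := ⟨fun x => hno ⟨x.1, x.2.1, x.2.2⟩⟩
      exact hz (by simp)
  | mul a b iha ihb =>
    rw [Nat.coprime_mul_iff_left] at hm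
    have := ihb (iha hX hm.1) hm.2
    rw [Set.image_image] at this
    simpa [pow_mul] using this

end Mult

section Transport

/-- A regular subgroup turns an action into a translating action on the subgroup. -/
theorem exists_transport {G Ω : Type*} [Group G] [MulAction G Ω] (C : Subgroup G) (a : Ω)
    [IsPretransitive (↥C) Ω] (hreg : stabilizer (↥C) a = ⊥) :
    ∃ (e : ↥C ≃ Ω), (∀ c : ↥C, e c = c • a) := by
  refine ⟨Equiv.ofBijective (fun c : ↥C => c • a) ⟨fun c d h => ?_, exists_smul_eq (↥C) a⟩,
    fun c => rfl⟩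
  have : d⁻¹ * c ∈ stabilizer (↥C) a := by
    rw [mem_stabilizer_iff, mul_smul]
    exact inv_smul_eq_iff.2 h
  rw [hreg, Subgroup.mem_bot] at this
  exact (inv_mul_eq_one.1 this).symm

end Transport

end CfsgLib.SchurRing
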